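import Cfsg.Agent.PF.S9k

/-! Peterfalvi, section 9: see `PF.S9a` (9.2-9.6), `PF.S9b` (9.7), `PF.S9c` (9.8-9.10), `PF.S9k` (9.11). -/
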